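import Cfsg.Agent.H182.Bad.RowB
import Cfsg.Agent.H805.SymFour
import Cfsg.Agent.LThreeMB.CoOneFin
import Cfsg.Agent.MThirteen.FiveRow

/-!
# The centralizers of the elements of order 13 in the Baby Monster (helper139, LD-B4 of S4910)

* `abs` : the abstract argument: `y` of order 13, a class of transpositions with `Sit` (helper182), products of order 1, 2, 3,
  at least 6 transpositions commuting with `y`, and `9 ∤ |C(y)|`: then `|C(y)| = 312` and `C(y)` contains `S₄`;
* `struct13` : `|C(x)| = 312`, and `C(x)` contains a subgroup `K ≅ S₄`.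
-/

set_option autoImplicit false
set_option maxRecDepth 100000
set_option linter.unusedSectionVars false

namespace Cfsg.Agent.H139.LD

open Subgroup Cfsg
open Cfsg.Agent.H182.Bad

section three

variable {H : Type*} [Group H] [Finite H]

/-- `a³ = b³ = (ab)³ = (a⁻¹b)³ = 1`, `9 ∤ |H|`, `a ≠ 1`: then `b ∈ ⟨a⟩`. -/
theorem mem_of_cubes (h9 : ¬ 9 ∣ Nat.card H) {a b : H} (ha : a ^ 3 = 1) (hb : b ^ 3 = 1) (hab : (a * b) ^ 3 = 1)
    (hab' : (a⁻¹ * b) ^ 3 = 1) (ha1 : a ≠ 1) : b ∈ zpowers a := by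
  have h3 : Fact (Nat.Prime 3) := ⟨Nat.prime_three⟩
  have h9' : ¬ 3 ^ 2 ∣ Nat.card H := by simpa using h9
  have hoa : orderOf a = 3 := orderOf_eq_prime ha ha1
  -- `a` commutes with `b⁻¹ a b`
  have e1 : a * b * a * b * a * b = 1 := by
    have : (a * b) ^ 3 = a * b * a * b * a * b := by
      simp only [pow_succ, pow_zero, one_mul, mul_assoc]
    rw [← this, hab]
  have e2 : a⁻¹ * b * a⁻¹ * b * a⁻¹ * b = 1 := by
    have : (a⁻¹ * b) ^ 3 = a⁻¹ * b * a⁻¹ * b * a⁻¹ * b := by
      simp only [pow_succ, pow_zero, one_mul, mul_assoc]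
    rw [← this, hab']
  have b3 : b * b * b = 1 := by rw [← hb]; simp only [pow_succ, pow_zero, one_mul]
  have a3 : a * a * a = 1 := by rw [← ha]; simp only [pow_succ, pow_zero, one_mul]
  have bi : b⁻¹ = b * b := by rw [inv_eq_iff_mul_eq_one]; rw [← mul_assoc]; exact b3
  have ai : a⁻¹ = a * a := by rw [inv_eq_iff_mul_eq_one]; rw [← mul_assoc]; exact a3
  -- `a b a = b⁻¹ a⁻¹ b⁻¹`
  have f1 : a * b * a = b⁻¹ * a⁻¹ * b⁻¹ := by
    have : a * b * a * (b * a * b) = 1 := by
      rw [← e1]; simp only [mul_assoc]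
    rw [mul_eq_one_iff_eq_inv] at this
    rw [this]; group
  -- `a b⁻¹ a = b a⁻¹ b`
  have f2 : a * b⁻¹ * a = b * a⁻¹ * b := by
    have h1 : (a⁻¹ * b * a⁻¹) * (b * a⁻¹ * b) = 1 := by
      rw [← e2]; simp only [mul_assoc]
    rw [mul_eq_one_iff_inv_eq] at h1
    rw [← h1]; group
  have hc : Commute (b⁻¹ * a * b) a := by
    show b⁻¹ * a * b * a = a * (b⁻¹ * a * b)
    have l : b⁻¹ * a * b * a = b⁻¹ * (a * b * a) := by group
    have r : a * (b⁻¹ * a * b) = (a * b⁻¹ * a) * b := by group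
    rw [l, r, f1, f2]
    have : b⁻¹ * (b⁻¹ * a⁻¹ * b⁻¹) = (b⁻¹ * b⁻¹) * a⁻¹ * b⁻¹ := by group
    rw [this]
    have h4 : b⁻¹ * b⁻¹ = b := by
      rw [bi]
      calc b * b * (b * b) = b * b * b * b := by simp only [mul_assoc]
        _ = b := by rw [b3, one_mul]
    have h5 : b * a⁻¹ * b * b = b * a⁻¹ * (b * b) := by group
    rw [h4, h5, bi]
  have hoc : orderOf (b⁻¹ * a * b) = 3 := by
    rw [← hoa]
    have := MulEquiv.orderOf_eq (MulAut.conj b⁻¹) a
    rw [MulAut.conj_apply, inv_inv] at this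
    exact this
  have hm := H182.Bad.BSec.mem_of_commute hoa h9' hoc hc
  -- `b⁻¹ a b = a` or `a⁻¹`
  have hcases : ∀ g ∈ zpowers a, g = 1 ∨ g = a ∨ g = a⁻¹ := by
    rintro g ⟨i, rfl⟩
    have hi : a ^ i = a ^ (i % (3 : ℤ)) := by
      have h6 := zpow_mod_orderOf a i
      rw [hoa] at h6
      exact h6.symm
    have h7 : 0 ≤ i % (3 : ℤ) := Int.emod_nonneg _ (by norm_num)
    have h8 : i % (3 : ℤ) < 3 := Int.emod_lt_of_pos _ (by norm_num)
    change a ^ i = 1 ∨ a ^ i = a ∨ a ^ i = a⁻¹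
    rw [hi]
    generalize i % (3 : ℤ) = j at h7 h8 ⊢
    interval_cases j
    · left; exact zpow_zero a
    · right; left; exact zpow_one a
    · right; right
      rw [ai]
      exact zpow_two a
  have hcom : Commute b a := by
    rcases hcases _ hm with h | h | h
    · rw [h, orderOf_one] at hoc
      norm_num at hoc
    · show b * a = a * b
      have : b * (b⁻¹ * a * b) = b * a := by rw [h]
      rw [← this]; group
    · exfalso
      -- conjugation three times
      have g1 : b⁻¹ * a⁻¹ * b = a := by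
        have : b⁻¹ * a⁻¹ * b = (b⁻¹ * a * b)⁻¹ := by group
        rw [this, h, inv_inv]
      have g2 : (b * b * b)⁻¹ * a * (b * b * b) = a⁻¹ := by
        have : (b * b * b)⁻¹ * a * (b * b * b) = b⁻¹ * (b⁻¹ * (b⁻¹ * a * b) * b) * b := by group
        rw [this, h, g1, h]
      rw [b3, inv_one, one_mul, mul_one] at g2
      apply ha1
      have g3 : a * a = 1 := by
        nth_rewrite 2 [g2]
        exact mul_inv_cancel a
      calc a = (a * a) * a * (a * a)⁻¹ := by group
        _ = 1 := by rw [a3, g3]; group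
  rcases Classical.em (b = 1) with h | h
  · rw [h]; exact one_mem _
  · exact H182.Bad.BSec.mem_of_commute hoa h9' (orderOf_eq_prime hb h) hcom

/-- three involutions -/
theorem no_three (h9 : ¬ 9 ∣ Nat.card H) {s t u : H} (hs : s * s = 1) (ht : t * t = 1)
    (hst : (s * t) ^ 3 = 1) (hsu : (s * u) ^ 3 = 1) (htu : (t * u) ^ 3 = 1) (hru : (s * t * s * u) ^ 3 = 1)
    (hne : s ≠ t) : u = s ∨ u = t ∨ u = s * t * s := by
  have hsi : s⁻¹ = s := inv_eq_of_mul_eq_one_left hs
  have hti : t⁻¹ = t := inv_eq_of_mul_eq_one_left ht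
  have ha1 : s * t ≠ 1 := by
    intro h
    apply hne
    rw [mul_eq_one_iff_eq_inv, hti] at h
    exact h
  have e1 : s * t * (s * u) = s * t * s * u := by simp only [mul_assoc]
  have e2 : (s * t)⁻¹ * (s * u) = t * u := by
    rw [mul_inv_rev, hsi, hti]
    calc t * s * (s * u) = t * (s * s) * u := by simp only [mul_assoc]
      _ = t * u := by rw [hs, mul_one]
  have hm := mem_of_cubes h9 hst hsu (by rw [e1]; exact hru) (by rw [e2]; exact htu) ha1
  have hoa : orderOf (s * t) = 3 := by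
    have h3 : Fact (Nat.Prime 3) := ⟨Nat.prime_three⟩
    exact orderOf_eq_prime hst ha1
  obtain ⟨i, hi⟩ := hm
  have hi' : (s * t) ^ (i % (3 : ℤ)) = s * u := by
    have h6 := zpow_mod_orderOf (s * t) i
    rw [hoa] at h6
    exact h6.trans hi
  have h7 : 0 ≤ i % (3 : ℤ) := Int.emod_nonneg _ (by norm_num)
  have h8 : i % (3 : ℤ) < 3 := Int.emod_lt_of_pos _ (by norm_num)
  generalize i % (3 : ℤ) = j at h7 h8 hi'
  interval_cases j
  · left
    rw [zpow_zero] at hi'
    have := (mul_eq_one_iff_inv_eq.1 hi'.symm)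
    rw [hsi] at this
    exact this.symm
  · right; left
    rw [zpow_one] at hi'
    exact (mul_left_cancel hi').symm
  · right; right
    have e3 : (s * t) ^ (2 : ℤ) = s * (t * s * t) := by
      rw [zpow_two]; simp only [mul_assoc]
    rw [e3] at hi'
    have e4 : u = t * s * t := (mul_left_cancel hi').symm
    rw [e4]
    -- `t s t = s t s`
    have e5 : (s * t * s) * (t * s * t) = 1 := by
      rw [← hst]
      simp only [pow_succ, pow_zero, one_mul, mul_assoc]
    have e6 : (s * t * s)⁻¹ = s * t * s := by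
      rw [mul_inv_rev, mul_inv_rev, hsi, hti, mul_assoc]
    rw [mul_eq_one_iff_inv_eq, e6] at e5
    exact e5.symm

end three

section abs

variable {G : Type*} [Group G] [Finite G] {TT : Set G} {y : G}

theorem comm_braid {s t : G} (hs : s * s = 1) (ht : t * t = 1) (h : (s * t) ^ 3 = 1) : s * t * s = t * s * t := by
  have hsi : s⁻¹ = s := inv_eq_of_mul_eq_one_left hs
  have hti : t⁻¹ = t := inv_eq_of_mul_eq_one_left ht
  have e5 : (s * t * s) * (t * s * t) = 1 := by
    rw [← h]
    simp only [pow_succ, pow_zero, one_mul, mul_assoc]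
  have e6 : (t * s * t)⁻¹ = t * s * t := by
    rw [mul_inv_rev, mul_inv_rev, hsi, hti, mul_assoc]
  rw [mul_eq_one_iff_eq_inv, e6] at e5
  exact e5

/-- **The abstract argument.** -/
theorem abs (S : BAbs.Sit TT y) (h6 : 6 ≤ Nat.card {t : G // t ∈ TT ∧ Commute t y})
    (h3 : ∀ s ∈ TT, ∀ t ∈ TT, Commute s y → Commute t y → ¬ Commute s t → (s * t) ^ 3 = 1)
    (h9 : ¬ 9 ∣ Nat.card (centralizer ({y} : Set G))) :
    Nat.card (centralizer ({y} : Set G)) = 312 ∧
      ∃ K : Subgroup G, K ≤ centralizer ({y} : Set G) ∧ Nat.card K = 24 ∧ Nonempty (K ≃* Equiv.Perm (Fin 4)) := by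
  classical
  obtain ⟨s, hs, t, ht, hsy, hty, hst⟩ := S.exists_noncomm (by omega)
  have hne : s ≠ t := by
    rintro rfl
    exact hst (Commute.refl s)
  set r := s * t * s with hr
  have hsi : s⁻¹ = s := inv_eq_of_mul_eq_one_left (S.sq s hs)
  have hrT : r ∈ TT := by
    have := S.conj s t ht
    rwa [hsi] at this
  have hry : Commute r y := (hsy.mul_left hty).mul_left hsy
  -- no other transposition commutes with none of `s`, `t`, `r`
  have hmeet : ∀ u ∈ TT, Commute u y → u ≠ s → u ≠ t → u ≠ r → Commute u s ∨ Commute u t ∨ Commute u r := by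
    intro u hu huy hus hut hur
    by_contra hcon
    push Not at hcon
    obtain ⟨c1, c2, c3⟩ := hcon
    have m : ∀ {x : G}, Commute x y → x ∈ centralizer ({y} : Set G) := fun h => mem_centralizer_singleton_iff.2 h.eq
    have key := no_three (H := ↥(centralizer ({y} : Set G))) h9 (s := ⟨s, m hsy⟩) (t := ⟨t, m hty⟩) (u := ⟨u, m huy⟩)
      (Subtype.ext (S.sq s hs)) (Subtype.ext (S.sq t ht))
      (Subtype.ext (h3 s hs t ht hsy hty hst)) (Subtype.ext (h3 s hs u hu hsy huy (fun h => c1 h.symm)))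
      (Subtype.ext (h3 t ht u hu hty huy (fun h => c2 h.symm)))
      (Subtype.ext (h3 r hrT u hu hry huy (fun h => c3 h.symm))) (fun h => hne (congrArg Subtype.val h))
    rcases key with h | h | h
    · exact hus (congrArg Subtype.val h)
    · exact hut (congrArg Subtype.val h)
    · exact hur (congrArg Subtype.val h)
  -- the bound 6
  set D : Set G := {u | u ∈ TT ∧ Commute u y} with hD
  set Pn : G → Set G := fun x => {u | (u ∈ TT ∧ Commute u y) ∧ u ≠ x ∧ Commute u x} with hPn
  have hPc : ∀ x ∈ TT, Commute x y → (Pn x).ncard ≤ 1 := by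
    intro x hx hxy
    rw [Set.ncard_le_one]
    rintro u ⟨⟨hu, huy⟩, hux, hucx⟩ v ⟨⟨hv, hvy⟩, hvx, hvcx⟩
    exact S.partner hx hxy hu hv hucx huy hvcx hvy hux hvx
  have hsub : D ⊆ {s, t, r} ∪ (Pn s ∪ (Pn t ∪ Pn r)) := by
    rintro u ⟨hu, huy⟩
    by_cases h1 : u = s
    · left; simp [h1]
    by_cases h2 : u = t
    · left; simp [h2]
    by_cases h4 : u = r
    · left; simp [h4]
    right
    rcases hmeet u hu huy h1 h2 h4 with h | h | h
    · exact Or.inl ⟨⟨hu, huy⟩, h1, h⟩
    · exact Or.inr (Or.inl ⟨⟨hu, huy⟩, h2, h⟩)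
    · exact Or.inr (Or.inr ⟨⟨hu, huy⟩, h4, h⟩)
  have hD6 : D.ncard ≤ 6 := by
    refine (Set.ncard_le_ncard hsub (Set.toFinite _)).trans ?_
    have i1 := Set.ncard_union_le ({s, t, r} : Set G) (Pn s ∪ (Pn t ∪ Pn r))
    have i2 := Set.ncard_union_le (Pn s) (Pn t ∪ Pn r)
    have i3 := Set.ncard_union_le (Pn t) (Pn r)
    have i4 := hPc s hs hsy
    have i5 := hPc t ht hty
    have i6 := hPc r hrT hry
    have i7 : ({s, t, r} : Set G).ncard ≤ 3 := by
      have j1 := Set.ncard_insert_le s ({t, r} : Set G)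
      have j2 := Set.ncard_insert_le t ({r} : Set G)
      have j3 := Set.ncard_singleton r
      omega
    omega
  have hD6' : Nat.card {t : G // t ∈ TT ∧ Commute t y} = D.ncard := Nat.card_coe_set_eq D
  -- a transposition commuting with one of them
  obtain ⟨g, hg, hgy, h, hh, hhy, hgh, u, hu, huy, hug, hcu⟩ : ∃ g ∈ TT, Commute g y ∧ ∃ h ∈ TT, Commute h y ∧
      ¬ Commute g h ∧ ∃ u ∈ TT, Commute u y ∧ u ≠ g ∧ Commute u g := by
    by_contra hcon
    push Not at hcon
    have hn : ∀ x ∈ TT, Commute x y → ∀ z ∈ TT, Commute z y → ¬ Commute x z → Pn x = ∅ := by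
      intro x hx hxy z hz hzy hxz
      rw [Set.eq_empty_iff_forall_notMem]
      rintro v ⟨⟨hv, hvy⟩, hvx, hvc⟩
      exact hcon x hx hxy z hz hzy hxz v hv hvy hvx hvc
    have q1 := hn s hs hsy t ht hty hst
    have q2 := hn t ht hty s hs hsy (fun h => hst h.symm)
    have q3 := hn r hrT hry s hs hsy (by
      intro h
      apply hst
      have h5 : s * t * s * s = s * (s * t * s) := h
      have e1 : s * t * s * s = s * t := by rw [mul_assoc (s * t), S.sq s hs, mul_one]
      have e2 : s * (s * t * s) = t * s := by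
        calc s * (s * t * s) = (s * s) * t * s := by simp only [mul_assoc]
          _ = t * s := by rw [S.sq s hs, one_mul]
      rw [e1, e2] at h5
      exact h5)
    rw [q1, q2, q3] at hsub
    have h7 := Set.ncard_le_ncard hsub (Set.toFinite _)
    rw [Set.union_empty, Set.union_empty, Set.union_empty] at h7
    have i7 : ({s, t, r} : Set G).ncard ≤ 3 := by
      have j1 := Set.ncard_insert_le s ({t, r} : Set G)
      have j2 := Set.ncard_insert_le t ({r} : Set G)
      have j3 := Set.ncard_singleton r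
      omega
    omega
  have huh : ¬ Commute u h := by
    intro hc
    have hgu : g ≠ u := fun h => hug h.symm
    have hhu : h ≠ u := by
      rintro rfl
      exact hgh hcu.symm
    have h7 := S.partner hu huy hg hh hcu.symm hgy hc.symm hhy hgu hhu
    apply hgh
    rw [h7]
  -- the subgroup
  set K := closure ({g, h, u} : Set G) with hK
  obtain ⟨e⟩ : Nonempty (K ≃* Equiv.Perm (Fin 4)) :=
    H805.SymFour.permFour (S.sq g hg) (S.sq h hh) (S.sq u hu) hcu.symm.eq
      (comm_braid (S.sq g hg) (S.sq h hh) (h3 g hg h hh hgy hhy hgh))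
      (comm_braid (S.sq u hu) (S.sq h hh) (h3 u hu h hh huy hhy huh)) (fun h => hug h.symm)
  have hK24 : Nat.card K = 24 := by
    rw [Nat.card_congr e.toEquiv, Nat.card_perm, Nat.card_fin]
    rfl
  have hKle : K ≤ centralizer ({y} : Set G) := by
    rw [hK, closure_le]
    rintro x (rfl | rfl | rfl)
    · exact mem_centralizer_singleton_iff.2 hgy.eq
    · exact mem_centralizer_singleton_iff.2 hhy.eq
    · exact mem_centralizer_singleton_iff.2 huy.eq
  refine ⟨?_, K, hKle, hK24, ⟨e⟩⟩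
  -- lower bound
  have hyC : zpowers y ≤ centralizer ({y} : Set G) := by
    rw [zpowers_le]
    exact mem_centralizer_singleton_iff.2 rfl
  have h24 : 24 ∣ Nat.card (centralizer ({y} : Set G)) := by
    rw [← hK24]; exact card_dvd_of_le hKle
  have h13 : 13 ∣ Nat.card (centralizer ({y} : Set G)) := by
    rw [← S.ord, ← Nat.card_zpowers]; exact card_dvd_of_le hyC
  have h312 : 312 ∣ Nat.card (centralizer ({y} : Set G)) :=
    (show Nat.Coprime 24 13 by norm_num).mul_dvd_of_dvd_of_dvd h24 h13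
  -- upper bound
  have hup : Nat.card (centralizer ({y} : Set G)) ≤ 6 * 52 := by
    set C := centralizer ({y} : Set G) with hC
    have hsC : s ∈ C := mem_centralizer_singleton_iff.2 hsy.eq
    have h7 := H182.Bad.BSec.card_conj (⟨s, hsC⟩ : C)
    have h8 := (centralizer ({(⟨s, hsC⟩ : C)} : Set C)).card_mul_index
    have h10 : Nat.card (centralizer ({(⟨s, hsC⟩ : C)} : Set C)) ≤ 52 := by
      refine le_trans ?_ (Nat.le_of_dvd (by norm_num) (S.card s hs hsy))
      refine Nat.card_le_card_of_injective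
        (fun c : centralizer ({(⟨s, hsC⟩ : C)} : Set C) =>
          (⟨((c : C) : G), mem_centralizer_singleton_iff.2 (congrArg Subtype.val (mem_centralizer_singleton_iff.1 c.2)),
            c.1.2⟩ : ↥(centralizer ({s} : Set G) ⊓ centralizer ({y} : Set G)))) ?_
      intro a b hab
      have hab' : (((a : C) : G)) = ((b : C) : G) :=
        congrArg (fun z : ↥(centralizer ({s} : Set G) ⊓ centralizer ({y} : Set G)) => (z : G)) hab
      exact Subtype.ext (Subtype.ext hab')
    have h11 : Nat.card {g : C // IsConj (⟨s, hsC⟩ : C) g} ≤ 6 := by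
      refine le_trans ?_ hD6
      rw [← hD6']
      refine Nat.card_le_card_of_injective
        (fun c : {g : C // IsConj (⟨s, hsC⟩ : C) g} =>
          (⟨((c : C) : G), ?_, (mem_centralizer_singleton_iff.1 c.1.2 : _ = _)⟩ : {t : G // t ∈ TT ∧ Commute t y})) ?_
      · obtain ⟨d, hd⟩ := isConj_iff.1 c.2
        rw [← hd]
        exact S.conj d s hs
      · intro a b hab
        have hab' : (((a : C) : G)) = ((b : C) : G) :=
          congrArg (fun z : {t : G // t ∈ TT ∧ Commute t y} => (z : G)) hab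
        exact Subtype.ext (Subtype.ext hab')
    rw [← h8, ← h7]
    calc _ ≤ 52 * 6 := Nat.mul_le_mul h10 h11
      _ = 6 * 52 := by norm_num
  exact Nat.le_antisymm hup (Nat.le_of_dvd Nat.card_pos h312)

end abs

end Cfsg.Agent.H139.LD

namespace Cfsg.Agent.H139.LD

open Cfsg Cfsg.Lie Cfsg.Agent.Bimonster Cfsg.Agent.Bimonster.Tits Cfsg.Agent.BabyU
open Cfsg.Agent.MonsterX.KSide Cfsg.Agent.MonsterX.KLift Cfsg.Agent.MonsterX.KModel
open Cfsg.Agent.MonsterX.Model Cfsg.Agent.MonsterX.MainPack Cfsg.Agent.MonsterX.MainSimple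
open Cfsg.Agent.MonsterX.MainBasic Cfsg.Agent.MonsterU.Assembly Cfsg.Agent.MonsterN.Lit Cfsg.Agent.MonsterN
open Cfsg.Agent.MonsterN.LitInst Cfsg.Agent.MonsterU.Lam2 Cfsg.Agent.MonsterU.TwoCls
open Cfsg.Agent.BabyComp Cfsg.Agent.R01.Lifts
open Cfsg.Agent.BpSpor.MBigPure
open Subgroup
open Cfsg.Agent.MonsterX Cfsg.Agent.MonsterX.InstData Cfsg.Agent.MonsterP Cfsg.Agent.BpSpor.MBigModel
open Cfsg.Agent.LThreeB.Row (TA)
open Cfsg.Agent.MThirteen
open Cfsg.Agent.H182.Bad.BLift (lift13 comm_lift exists_cover)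
open Cfsg.Agent.H182.Bad.RowB (t1)

section

variable {u τ a : MG}

/-- the involutions commuting with `u` are in the class `TA` -/
theorem ta_all (hu : orderOf u = 13) (hτ : τ * τ = 1) (hτ1 : τ ≠ 1) (ha : a * a = 1) (ha1 : a ≠ 1) (haτ : a ≠ τ)
    (hut : u * τ = τ * u) (hua : u * a = a * u) (hat : a * τ = τ * a) {c : MG} (hc : c * c = 1) (hc1 : c ≠ 1)
    (hcu : c * u = u * c) : TA c := by
  have h2 : ∀ {x : MG}, x * x = 1 → x ≠ 1 → orderOf x = 2 := fun {x} hx hx1 =>
    orderOf_eq_prime (by rw [pow_two]; exact hx) hx1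
  have hxz := H109.Nr.T.not_comm_z hu (h2 hτ hτ1) (h2 ha ha1) hut hua hat.symm haτ.symm
  exact TwoARow.ta hxz hc hc1 hcu

/-- no element of order 5 -/
theorem key5 (hu : orderOf u = 13) (hτ : τ * τ = 1) (hτ1 : τ ≠ 1) (ha : a * a = 1) (ha1 : a ≠ 1) (haτ : a ≠ τ)
    (hut : u * τ = τ * u) (hua : u * a = a * u) (hat : a * τ = τ * a) {r : MG} (hrt : r * τ = τ * r)
    (hinv : a * r * a⁻¹ = r⁻¹) : orderOf r ≠ 5 := by
  have T : ∀ {c : MG}, c * c = 1 → c ≠ 1 → c * u = u * c → TA c := fun {c} h1 h3 h4 =>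
    ta_all hu hτ hτ1 ha ha1 haτ hut hua hat h1 h3 h4
  refine FiveRow.not_five (t := τ) (d := a) (T hτ hτ1 hut.symm) (T ha ha1 hua.symm) (T ?_ ?_ ?_) hat.symm hrt hinv
  · calc τ * a * (τ * a) = τ * (a * τ) * a := by group
      _ = τ * (τ * a) * a := by rw [hat]
      _ = (τ * τ) * (a * a) := by group
      _ = 1 := by rw [hτ, ha, one_mul]
  · intro h
    apply haτ
    rw [mul_eq_one_iff_eq_inv, inv_eq_of_mul_eq_one_left ha] at h
    exact h.symm
  · exact (Commute.mul_left (show Commute τ u from hut.symm) (show Commute a u from hua.symm)).eq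

end

/-- the lift of a transposition -/
theorem exists_lift {q : BB KDone.K KLinkInst.x₀ →* Spor.BabyMonster} {d : BB KDone.K KLinkInst.x₀}
    (hq : Ext q (tb KDone.K KLinkInst.x₀)) (hdd : d * d = 1) (hqd : q d = PresentedGroup.of Spor.BabyMonster.Gen.t1)
    {r : Spor.BabyMonster} (hr : IsConj t1 r) : ∃ a : BB KDone.K KLinkInst.x₀, a * a = 1 ∧ q a = r := by
  obtain ⟨c, hc⟩ := isConj_iff.1 hr
  obtain ⟨k, hk⟩ := hq.surj c
  refine ⟨k * d * k⁻¹, ?_, ?_⟩
  · calc k * d * k⁻¹ * (k * d * k⁻¹) = k * (d * d) * k⁻¹ := by group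
      _ = 1 := by rw [hdd]; group
  · rw [map_mul, map_mul, map_inv, hk, hqd]
    exact hc

/-- **Two transpositions commuting with an element of order 13 that do not commute: the product has order 3.** -/
theorem cube {y s t : Spor.BabyMonster} (hy : orderOf y = 13) (hs : IsConj t1 s) (ht : IsConj t1 t)
    (hsy : Commute s y) (hty : Commute t y) (hst : ¬ Commute s t) : (s * t) ^ 3 = 1 := by
  have hfB := H182.Bad.RowB.finite_b
  have hne : ∀ {x : Spor.BabyMonster}, IsConj t1 x → x ≠ 1 := by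
    rintro x hx rfl
    obtain ⟨c, hc⟩ := isConj_iff.1 hx
    apply H182.Bad.RowB.t1_facts.2.1
    calc t1 = c⁻¹ * (c * t1 * c⁻¹) * c := by group
      _ = 1 := by rw [hc]; group
  have S := H182.Bad.RowB.sit hy
  have hs1 := hne hs
  have ht1 := hne ht
  have hss : s * s = 1 := S.sq s hs
  have htt : t * t = 1 := S.sq t ht
  have hsq : (s * t) ^ 2 ≠ 1 := fun h => hst (H182.Bad.BAbs.commute_of_sq hss htt h)
  rcases H182.Bad.BLift.pair hy hs ht hs1 ht1 hsy hty with h | h | h
  · exact absurd h hsq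
  · exact h
  exfalso
  obtain ⟨q, d, hq, hdd, hqd⟩ := exists_cover
  obtain ⟨u, hu, hqu⟩ := lift13 hq hy
  obtain ⟨a, haa, hqa⟩ := exists_lift hq hdd hqd hs
  obtain ⟨b, hbb, hqb⟩ := exists_lift hq hdd hqd ht
  set τ := tb KDone.K KLinkInst.x₀ with hτ
  have hau : a * u = u * a := comm_lift hq hu (by rw [hqa, hqu]; exact hsy)
  have ha1 : a ≠ 1 := fun h => hs1 (by rw [← hqa, h, map_one])
  have haτ : a ≠ τ := fun h => hs1 (by rw [← hqa, h, hq.mapz])
  have hv : ∀ {x y : BB KDone.K KLinkInst.x₀}, x = y → ((x : BB KDone.K KLinkInst.x₀) : MG) = y := fun h => congrArg _ h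
  have hv' : ∀ {x y : BB KDone.K KLinkInst.x₀}, x ≠ y → ((x : BB KDone.K KLinkInst.x₀) : MG) ≠ y :=
    fun h h' => h (Subtype.ext h')
  set r := (a * b) ^ 2 with hr
  have h5 : r ^ 5 = 1 := by
    have h6 : q ((a * b) ^ 5) = 1 := by rw [map_pow, map_mul, hqa, hqb, h]
    have h7 : r ^ 5 = ((a * b) ^ 5) ^ 2 := by rw [hr, ← pow_mul, ← pow_mul]
    rw [h7]
    rcases (hq.ker _).1 h6 with h8 | h8
    · rw [h8, one_pow]
    · rw [h8, pow_two, hq.zz]
  have hr1 : r ≠ 1 := by
    intro h8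
    apply hsq
    have : q r = (s * t) ^ 2 := by rw [hr, map_pow, map_mul, hqa, hqb]
    rw [← this, h8, map_one]
  have hr5 : orderOf r = 5 := by
    have : Fact (Nat.Prime 5) := ⟨Nat.prime_five⟩
    exact orderOf_eq_prime h5 hr1
  have hinv : a * r * a⁻¹ = r⁻¹ := by
    rw [hr, ← conj_pow, ← inv_pow]
    congr 1
    have hai : a⁻¹ = a := inv_eq_of_mul_eq_one_left haa
    have hbi : b⁻¹ = b := inv_eq_of_mul_eq_one_left hbb
    rw [mul_inv_rev, hai, hbi, ← mul_assoc, haa, one_mul]
  refine key5 (u := (u : MG)) (τ := (τ : MG)) (a := (a : MG)) (r := (r : MG)) (by rw [Subgroup.orderOf_coe, hu])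
    (hv hq.zz) (hv' hq.zne) (hv haa) (hv' ha1) (hv' haτ) (hv (hq.comm u)) (hv hau.symm) (hv (hq.comm a))
    (hv (hq.comm r)) (hv hinv) (by rw [Subgroup.orderOf_coe, hr5])

/-- **`9 ∤ |C(y)|`** -/
theorem not_nine {y : Spor.BabyMonster} (hy : orderOf y = 13) :
    ¬ 9 ∣ Nat.card (centralizer ({y} : Set Spor.BabyMonster)) := by
  have hfB := H182.Bad.RowB.finite_b
  have S := H182.Bad.RowB.sit hy
  obtain ⟨s, hs, -, -, hsy, -, -⟩ := S.exists_noncomm (H182.Bad.RowB.three_le hy)
  have hs1 : s ≠ 1 := S.ne hs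
  obtain ⟨q, d, hq, hdd, hqd⟩ := exists_cover
  obtain ⟨u, hu, hqu⟩ := lift13 hq hy
  obtain ⟨a, haa, hqa⟩ := exists_lift hq hdd hqd hs
  set τ := tb KDone.K KLinkInst.x₀ with hτ
  have hau : a * u = u * a := comm_lift hq hu (by rw [hqa, hqu]; exact hsy)
  have ha1 : a ≠ 1 := fun h => hs1 (by rw [← hqa, h, map_one])
  have haτ : a ≠ τ := fun h => hs1 (by rw [← hqa, h, hq.mapz])
  have hv : ∀ {x y : BB KDone.K KLinkInst.x₀}, x = y → ((x : BB KDone.K KLinkInst.x₀) : MG) = y := fun h => congrArg _ h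
  have hv' : ∀ {x y : BB KDone.K KLinkInst.x₀}, x ≠ y → ((x : BB KDone.K KLinkInst.x₀) : MG) ≠ y :=
    fun h h' => h (Subtype.ext h')
  have hTA : TA (τ : MG) := ta_all (u := (u : MG)) (τ := (τ : MG)) (a := (a : MG)) (by rw [Subgroup.orderOf_coe, hu])
    (hv hq.zz) (hv' hq.zne) (hv haa) (hv' ha1) (hv' haτ) (hv (hq.comm u)) (hv hau.symm) (hv (hq.comm a))
    (hv hq.zz) (hv' hq.zne) (hv (hq.comm u).symm)
  have hfin : Finite MG := MThirteen.Row.finite
  intro h9
  refine MThirteen.Row.not_nine LThreeMB.CoOneFin.coOne (x := (u : MG)) (t := (τ : MG))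
    (by rw [Subgroup.orderOf_coe, hu]) hTA (hv (hq.comm u)) (h9.trans ?_)
  -- `C_X(u) → C(y)` is surjective
  let f : ↥(centralizer ({u} : Set (BB KDone.K KLinkInst.x₀))) →* ↥(centralizer ({y} : Set Spor.BabyMonster)) :=
    (q.comp (centralizer ({u} : Set (BB KDone.K KLinkInst.x₀))).subtype).codRestrict _ (by
      intro c
      rw [mem_centralizer_singleton_iff]
      change q (c : BB KDone.K KLinkInst.x₀) * y = y * q (c : BB KDone.K KLinkInst.x₀)
      rw [← hqu, ← map_mul, ← map_mul, mem_centralizer_singleton_iff.1 c.2])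
  have hf : Function.Surjective f := by
    intro c
    obtain ⟨k, hk⟩ := hq.surj (c : Spor.BabyMonster)
    have hku : k * u = u * k := comm_lift hq hu (by
      rw [hk, hqu]
      exact mem_centralizer_singleton_iff.1 c.2)
    exact ⟨⟨k, mem_centralizer_singleton_iff.2 hku⟩, Subtype.ext hk⟩
  refine (card_dvd_of_surjective f hf).trans ?_
  let g : ↥(centralizer ({u} : Set (BB KDone.K KLinkInst.x₀))) →*
      ↥(centralizer ({(u : MG)} : Set MG) ⊓ centralizer ({(τ : MG)} : Set MG)) :=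
    (((BB KDone.K KLinkInst.x₀).subtype).comp (centralizer ({u} : Set (BB KDone.K KLinkInst.x₀))).subtype).codRestrict _
      (by
        intro c
        refine mem_inf.2 ⟨mem_centralizer_singleton_iff.2 ?_, mem_centralizer_singleton_iff.2 ?_⟩
        · exact hv (mem_centralizer_singleton_iff.1 c.2)
        · exact hv (hq.comm (c : BB KDone.K KLinkInst.x₀)))
  refine card_dvd_of_injective g ?_
  intro c c' hcc
  have h10 : (((c : BB KDone.K KLinkInst.x₀)) : MG) = ((c' : BB KDone.K KLinkInst.x₀) : MG) :=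
    congrArg (fun z : ↥(centralizer ({(u : MG)} : Set MG) ⊓ centralizer ({(τ : MG)} : Set MG)) => (z : MG)) hcc
  exact Subtype.ext (Subtype.ext h10)

/-- the structure in the model -/
theorem struct13_model {y : Spor.BabyMonster} (hy : orderOf y = 13) :
    Nat.card (centralizer ({y} : Set Spor.BabyMonster)) = 312 ∧
      ∃ K : Subgroup Spor.BabyMonster, K ≤ centralizer ({y} : Set Spor.BabyMonster) ∧ Nat.card K = 24 ∧
        Nonempty (K ≃* Equiv.Perm (Fin 4)) := by
  have hfB := H182.Bad.RowB.finite_b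
  refine abs (H182.Bad.RowB.sit hy) ?_ (fun s hs t ht hsy hty hst => cube hy hs ht hsy hty hst) (not_nine hy)
  -- at least six
  have h13 : Fact (Nat.Prime 13) := ⟨by norm_num⟩
  obtain ⟨-, -, h3⟩ := H182.Bad.RowB.t1_facts
  have h4 := H182.Bad.BSec.card_modEq hy {t : Spor.BabyMonster | IsConj t1 t}
    (fun g t ht => IsConj.trans ht (isConj_iff.2 ⟨g, rfl⟩))
  have h5 : Nat.card {t : Spor.BabyMonster | IsConj t1 t} = (centralizer ({t1} : Set Spor.BabyMonster)).index :=
    H182.Bad.BSec.card_conj t1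
  have h6 := (centralizer ({t1} : Set Spor.BabyMonster)).card_mul_index
  rw [h3, H182.Bad.RowB.card_b] at h6
  have h7 : (centralizer ({t1} : Set Spor.BabyMonster)).index = 13571955000 := by omega
  rw [h5, h7] at h4
  have h8 : 13571955000 % 13 = 6 := by norm_num
  unfold Nat.ModEq at h4
  omega

universe u

/-- **LD-B4: `|C(x)| = 312` and `C(x)` contains a subgroup isomorphic to `S₄`, for `x` of order 13 in the Baby Monster.** -/
theorem struct13 {L : Type u} [Group L] [Finite L] (h : Spor.IsoB L) {x : L} (hx : orderOf x = 13) :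
    Nat.card (centralizer ({x} : Set L)) = 312 ∧
      ∃ K : Subgroup L, K ≤ centralizer ({x} : Set L) ∧ Nat.card K = 24 ∧ Nonempty (K ≃* Equiv.Perm (Fin 4)) := by
  obtain ⟨e⟩ : Nonempty (L ≃* Spor.BabyMonster) := h
  obtain ⟨h1, K, hK, hK24, ⟨f⟩⟩ := struct13_model (y := e x) ((MulEquiv.orderOf_eq e x).trans hx)
  have hmap : (centralizer ({x} : Set L)).map e.toMonoidHom = centralizer ({e x} : Set Spor.BabyMonster) := by
    ext k
    rw [mem_map_equiv, mem_centralizer_singleton_iff, mem_centralizer_singleton_iff]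
    constructor
    · intro h2
      have h3 := congrArg e h2
      rwa [map_mul, map_mul, e.apply_symm_apply] at h3
    · intro h2
      apply e.injective
      rwa [map_mul, map_mul, e.apply_symm_apply]
  have hc := card_map_of_injective (K := centralizer ({x} : Set L)) (f := e.toMonoidHom) e.injective
  rw [hmap, h1] at hc
  have e1 : (K.map e.symm.toMonoidHom) ≃* K := (K.equivMapOfInjective e.symm.toMonoidHom e.symm.injective).symm
  refine ⟨hc.symm, K.map e.symm.toMonoidHom, ?_, ?_, ⟨e1.trans f⟩⟩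
  · rintro _ ⟨k, hk, rfl⟩
    have h2 := mem_centralizer_singleton_iff.1 (hK hk)
    rw [mem_centralizer_singleton_iff]
    apply e.injective
    change e (e.symm k * x) = e (x * e.symm k)
    rw [map_mul, map_mul, e.apply_symm_apply]
    exact h2
  · rw [Nat.card_congr e1.toEquiv, hK24]

end Cfsg.Agent.H139.LD
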